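import Groth.Agent.Lib.LocZ.Excision
import Groth.Agent.Lib.SheafCoh.Derived
import Groth.Agent.Lib.SheafCoh.DerivedComp

/-! # Higher direct images and restriction to an open of the base -/

set_option autoImplicit false
set_option backward.isDefEq.respectTransparency false

universe u

open CategoryTheory CategoryTheory.Limits Opposite TopologicalSpace

namespace GrothLib.RestrBase25

open GrothLib

variable {X Y : TopCat.{u}} (f : X ⟶ Y) (V : Opens Y)

/-- The restriction of `f` over `V`. -/
noncomputable abbrev fRes : TopCat.of ((Opens.map f).obj V) ⟶ TopCat.of V :=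
  TopCat.ofHom ⟨(V : Set Y).restrictPreimage f, f.hom.continuous.restrictPreimage⟩

theorem openFun_eq (W : Opens (TopCat.of V)) :
    (SheafCoh.openFun ((Opens.map f).obj V)).obj ((Opens.map (fRes f V)).obj W) =
      (Opens.map f).obj ((SheafCoh.openFun V).obj W) := by
  ext z
  constructor
  · rintro ⟨z', hz', rfl⟩
    exact ⟨_, hz', rfl⟩
  · rintro ⟨w, hw, e⟩
    have hz : f z ∈ (V : Set Y) := e ▸ w.2
    exact ⟨⟨z, hz⟩, by
      have : (fRes f V) ⟨z, hz⟩ = w := Subtype.ext e.symm
      show (fRes f V) ⟨z, hz⟩ ∈ W
      rw [this]; exact hw, rfl⟩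

/-- Direct image commutes with restriction to an open of the base. -/
noncomputable def pushRestrIso :
    CohTop.push f ⋙ CohTop.restrFunctor V ≅
      CohTop.restrFunctor ((Opens.map f).obj V) ⋙ CohTop.push (fRes f V) :=
  NatIso.ofComponents
    (fun F => ObjectProperty.isoMk _
      (NatIso.ofComponents (fun W => F.obj.mapIso (eqToIso (openFun_eq f V W.unop)).op)
        (fun {W W'} i => by
          change F.obj.map _ ≫ F.obj.map _ = F.obj.map _ ≫ F.obj.map _
          rw [← F.obj.map_comp, ← F.obj.map_comp]
          rfl)))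
    (fun {F G} g => by
      refine ObjectProperty.hom_ext _ ?_
      ext W x
      exact ConcreteCategory.congr_hom (g.hom.naturality (eqToIso (openFun_eq f V W.unop)).op.hom).symm x)

theorem nonempty_restr_Rpush_iso (F : CohTop.Ab X) (p : ℕ) :
    Nonempty (CohTop.restr ((CohTop.Rpush f p).obj F) V ≅
      (CohTop.Rpush (fRes f V) p).obj (CohTop.restr F ((Opens.map f).obj V))) := by
  have := LocZ.preservesFiniteLimits_restr V
  have := LocZ.preservesFiniteColimits_restr V
  have := LocZ.preservesFiniteLimits_restr ((Opens.map f).obj V)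
  have := LocZ.preservesFiniteColimits_restr ((Opens.map f).obj V)
  have : (CohTop.restrFunctor V).PreservesHomology := Functor.preservesHomologyOfExact _
  haveI hg : (CohTop.push (fRes f V)).Additive := { map_add := rfl }
  let Φ : CohTop.Ab X ⥤ CohTop.Ab (TopCat.of V) := CohTop.push f ⋙ CohTop.restrFunctor V
  exact ⟨(SheafCoh.rightDerivedPostExactIso Φ (CohTop.push f) (CohTop.restrFunctor V) (Iso.refl _) F p).symm ≪≫
    (SheafCoh.rightDerivedCongr (pushRestrIso f V) p).app F ≪≫
    ((LocZ.rightDerivedPreExactIso (CohTop.restrFunctor ((Opens.map f).obj V))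
      (fun I hI => @LocZ.injective_restr _ _ I hI) (CohTop.push (fRes f V)) p).app F).symm⟩

end GrothLib.RestrBase25
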